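import Cfsg.Agent.EqLemmas
import Cfsg.Agent.Lib.OddOrderTheorem.Basic
import Cfsg.Agent.Lib.FPFLie.Thompson

/-!
Finite groups in which every element has prime power order.

* `exists_radical` : a solvable normal subgroup with quotient without nontrivial solvable normal subgroup
* `exists_simple_normal` : such a quotient is almost simple
* `isPGroup_two_radical` : over such a nontrivial quotient the radical is a 2-group
* `dvd_card_of_normal` : all primes of an almost simple group divide the socle
-/

set_option autoImplicit false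

open Subgroup

namespace Cfsg.Agent.EPPO

universe u

/-- Every nontrivial element has prime power order. -/
def Pp (G : Type*) [Group G] : Prop := ∀ g : G, g ≠ 1 → IsPrimePow (orderOf g)

variable {G : Type u} [Group G]

theorem Pp.subgroup (h : Pp G) (H : Subgroup G) : Pp H := fun g hg => by
  rw [← Subgroup.orderOf_coe]
  exact h g fun e => hg (Subtype.ext e)

theorem Pp.of_surjective {H : Type*} [Group H] [Finite G] (h : Pp G) (f : G →* H) (hf : Function.Surjective f) :
    Pp H := fun y hy => by
  obtain ⟨x, rfl⟩ := hf y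
  exact (h x fun e => hy (by rw [e, map_one])).dvd (orderOf_map_dvd f x) (orderOf_eq_one_iff.not.mpr hy)

theorem Pp.quotient [Finite G] (h : Pp G) (N : Subgroup G) [N.Normal] : Pp (G ⧸ N) :=
  h.of_surjective (QuotientGroup.mk' N) (QuotientGroup.mk'_surjective N)

/-- Commuting elements of prime orders have the same order. -/
theorem Pp.prime_eq (h : Pp G) {a b : G} {p q : ℕ} (hp : p.Prime) (hq : q.Prime) (ha : orderOf a = p)
    (hb : orderOf b = q) (hab : a * b = b * a) : p = q := by
  by_contra hne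
  have ho := (show Commute a b from hab).orderOf_mul_eq_mul_orderOf_of_coprime
    (by rw [ha, hb]; exact (Nat.coprime_primes hp hq).2 hne)
  rw [ha, hb] at ho
  have h1 : a * b ≠ 1 := fun e => by
    rw [e, orderOf_one] at ho
    exact absurd (Nat.eq_one_of_mul_eq_one_right ho.symm) hp.ne_one
  obtain ⟨r, -, huniq⟩ := isPrimePow_iff_unique_prime_dvd.1 (ho ▸ h _ h1)
  exact hne ((huniq p ⟨hp, dvd_mul_right p q⟩).trans (huniq q ⟨hq, dvd_mul_left q p⟩).symm)

/-- An element commuting with an element of order `p` is a `p`-element. -/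
theorem Pp.orderOf_dvd_of_commute [Finite G] (h : Pp G) {a b : G} {p : ℕ} (hp : p.Prime) (ha : orderOf a = p)
    (hab : a * b = b * a) {q : ℕ} (hq : q.Prime) (hd : q ∣ orderOf b) : q = p := by
  have hpos := orderOf_pos b
  have hb : orderOf (b ^ (orderOf b / q)) = q := by
    rw [orderOf_pow' _ (Nat.div_pos (Nat.le_of_dvd hpos hd) hq.pos).ne',
      Nat.gcd_eq_right (Nat.div_dvd_of_dvd hd), Nat.div_div_self hd hpos.ne']
  exact (h.prime_eq hp hq ha hb ((show Commute a b from hab).pow_right _).eq).symm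

theorem Pp.isPGroup_centralizer [Finite G] (h : Pp G) {a : G} {p : ℕ} (hp : p.Prime) (ha : orderOf a = p) :
    IsPGroup p (centralizer ({a} : Set G)) := by
  intro b
  refine ⟨(orderOf (b : G)).primeFactorsList.length, ?_⟩
  apply Subtype.ext
  rw [Subgroup.coe_pow, Subgroup.coe_one]
  apply orderOf_dvd_iff_pow_eq_one.1
  apply dvd_of_eq
  exact Nat.eq_prime_pow_of_unique_prime_dvd (orderOf_pos (b : G)).ne' fun hd hq =>
    h.orderOf_dvd_of_commute hp ha (mem_centralizer_singleton_iff.1 b.2).symm hd hq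

theorem exists_two_primes [Finite G] (hns : ¬ Group.IsSolvable G) (p : ℕ) :
    ∃ q : ℕ, q.Prime ∧ q ≠ p ∧ q ∣ Nat.card G := by
  by_contra hh
  push Not at hh
  apply hns
  have hone : ∀ q : ℕ, q.Prime → q ∣ Nat.card G → q = p := fun q hq hd => by
    by_contra hne
    exact hh q hq hne hd
  by_cases h1 : Nat.card G = 1
  · haveI : Subsingleton G := (Nat.card_eq_one_iff_unique.1 h1).1
    infer_instance
  · obtain ⟨q, hq, hd⟩ := Nat.exists_prime_and_dvd h1
    obtain rfl := hone q hq hd
    haveI := Fact.mk hq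
    have hP : IsPGroup q G := IsPGroup.of_card (n := (Nat.card G).primeFactorsList.length)
      (Nat.eq_prime_pow_of_unique_prime_dvd Nat.card_pos.ne' fun hs hsd => hone _ hs hsd)
    haveI := hP.isNilpotent
    infer_instance

/-- A nonsolvable subgroup commutes with no nontrivial subgroup. -/
theorem Pp.eq_bot_of_commute [Finite G] (h : Pp G) {A B : Subgroup G} (hB : ¬ Group.IsSolvable B)
    (hAB : A ≤ centralizer (B : Set G)) : A = ⊥ := by
  by_contra hA
  obtain ⟨p, hp, hpd⟩ := Nat.exists_prime_and_dvd (Subgroup.card_eq_one.not.2 hA)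
  obtain ⟨q, hq, hne, hqd⟩ := exists_two_primes hB p
  haveI := Fact.mk hp
  haveI := Fact.mk hq
  obtain ⟨a, ha⟩ := exists_prime_orderOf_dvd_card' p hpd
  obtain ⟨b, hb⟩ := exists_prime_orderOf_dvd_card' q hqd
  exact hne (h.prime_eq hp hq (by rw [Subgroup.orderOf_coe]; exact ha)
    (by rw [Subgroup.orderOf_coe]; exact hb) ((mem_centralizer_iff.1 (hAB a.2) b b.2).symm)).symm

theorem exists_radical [Finite G] :
    ∃ R : Subgroup G, ∃ _ : R.Normal, Group.IsSolvable R ∧
      ∀ N : Subgroup (G ⧸ R), N.Normal → Group.IsSolvable N → N = ⊥ := by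
  obtain ⟨R, hR⟩ := Set.Finite.exists_maximal (Set.toFinite {N : Subgroup G | N.Normal ∧ Group.IsSolvable N})
    ⟨⊥, inferInstance, inferInstance⟩
  haveI := hR.1.1
  refine ⟨R, hR.1.1, hR.1.2, fun N hN hNs => ?_⟩
  set M := N.comap (QuotientGroup.mk' R) with hM
  have hRM : R ≤ M := QuotientGroup.le_comap_mk' R N
  haveI := hNs
  haveI := hR.1.2
  have hMs : Group.IsSolvable M := by
    let f : M →* N := ((QuotientGroup.mk' R).comp M.subtype).codRestrict N fun x => x.2
    refine solvable_of_ker_le_range (Subgroup.inclusion hRM) f fun x hx => ?_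
    have hx' : QuotientGroup.mk' R (x : G) = 1 := by
      exact congrArg Subtype.val (MonoidHom.mem_ker.1 hx)
    rw [← MonoidHom.mem_ker, QuotientGroup.ker_mk'] at hx'
    exact ⟨⟨x, hx'⟩, Subtype.ext rfl⟩
  have := hR.eq_of_ge ⟨hN.comap _, hMs⟩ hRM
  calc N = M.map (QuotientGroup.mk' R) :=
        (Subgroup.map_comap_eq_self_of_surjective (QuotientGroup.mk'_surjective R) N).symm
    _ = R.map (QuotientGroup.mk' R) := congrArg _ this
    _ = ⊥ := QuotientGroup.map_mk'_self R

/-- An EPPO group with trivial radical is almost simple. -/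
theorem exists_simple_normal [Finite G] [Nontrivial G] (h : Pp G)
    (hrad : ∀ N : Subgroup G, N.Normal → Group.IsSolvable N → N = ⊥) :
    ∃ S : Subgroup G, S.Normal ∧ IsSimpleGroup S ∧ ¬ Group.IsSolvable S ∧ centralizer (S : Set G) = ⊥ := by
  obtain ⟨S, hS⟩ := Set.Finite.exists_minimal (Set.toFinite {N : Subgroup G | N.Normal ∧ N ≠ ⊥})
    ⟨⊤, inferInstance, top_ne_bot⟩
  haveI := hS.1.1
  have hns : ¬ Group.IsSolvable S := fun hs => hS.1.2 (hrad S hS.1.1 hs)
  refine ⟨S, hS.1.1, ?_, hns, h.eq_bot_of_commute hns le_rfl⟩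
  haveI : Nontrivial S := (Subgroup.nontrivial_iff_ne_bot S).2 hS.1.2
  refine ⟨fun T hT => or_iff_not_imp_left.2 fun hT0 => ?_⟩
  obtain ⟨U, hUT, hU⟩ := Set.Finite.exists_minimal (Set.toFinite {N : Subgroup S | N.Normal ∧ N ≠ ⊥ ∧ N ≤ T})
    ⟨T, hT, hT0, le_rfl⟩ |>.elim fun U hU => (⟨U, hU.1.2.2, hU⟩ : ∃ U, U ≤ T ∧ _)
  have hUn : U.Normal := hU.1.1
  set V : Subgroup G := U.map S.subtype with hV
  have hVS : V ≤ S := Subgroup.map_subtype_le _
  have hV0 : V ≠ ⊥ := by
    rw [hV, Ne, Subgroup.map_eq_bot_iff_of_injective _ S.subtype_injective]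
    exact hU.1.2.1
  -- no solvable normal subgroup of `S`
  have hUns : ¬ Group.IsSolvable U := by
    intro hUs
    -- the join of the conjugates of `U` is solvable and normal
    obtain ⟨W, hW⟩ := Set.Finite.exists_maximal
      (Set.toFinite {N : Subgroup S | N.Normal ∧ Group.IsSolvable N}) ⟨U, hUn, hUs⟩
    haveI := hW.1.1
    haveI := hW.1.2
    have huniq : ∀ N : Subgroup S, N.Normal → Group.IsSolvable N → N ≤ W := by
      intro N hN hNs
      haveI := hN
      haveI := hNs
      have hsol : Group.IsSolvable ↥(N ⊔ W) := by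
        refine solvable_of_ker_le_range (Subgroup.inclusion (le_sup_right : W ≤ N ⊔ W))
          ((QuotientGroup.mk' W).comp (N ⊔ W).subtype).rangeRestrict ?_ (G'' := _) (hG' := inferInstance)
          (hG'' := ?_)
        · intro x hx
          rw [MonoidHom.ker_rangeRestrict, MonoidHom.mem_ker] at hx
          exact ⟨⟨x, (QuotientGroup.eq_one_iff _).1 hx⟩, Subtype.ext rfl⟩
        · rw [MonoidHom.range_comp, Subgroup.range_subtype, Subgroup.map_sup, QuotientGroup.map_mk'_self,
            sup_bot_eq]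
          exact solvable_of_surjective ((QuotientGroup.mk' W).subgroupMap_surjective N)
      exact le_sup_left.trans (hW.eq_of_ge ⟨inferInstance, hsol⟩ le_sup_right).le
    haveI : W.Characteristic := Subgroup.characteristic_iff_map_le.2 fun φ =>
      huniq _ (hW.1.1.map _ φ.surjective) (solvable_of_surjective (φ.toMonoidHom.subgroupMap_surjective W))
    have hW0 : W.map S.subtype = ⊥ := hrad _ inferInstance
      (solvable_of_surjective (S.subtype.subgroupMap_surjective W))
    rw [Subgroup.map_eq_bot_iff_of_injective _ S.subtype_injective] at hW0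
    exact hU.1.2.1 (le_bot_iff.1 ((huniq U hUn hUs).trans hW0.le))
  have hVns : ¬ Group.IsSolvable V := fun hs => hUns
    (solvable_of_surjective (f := (U.equivMapOfInjective _ S.subtype_injective).symm.toMonoidHom)
      (U.equivMapOfInjective _ S.subtype_injective).symm.surjective)
  have hVnorm : ∀ g : G, V.map (MulAut.conj g).toMonoidHom = V := by
    intro g
    set φ : S ≃* S := MulAut.conjNormal g with hφ
    have e : V.map (MulAut.conj g).toMonoidHom = (U.map φ.toMonoidHom).map S.subtype := by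
      rw [hV, Subgroup.map_map, Subgroup.map_map]
      congr 1
    haveI hU' : (U.map φ.toMonoidHom).Normal := hUn.map _ φ.surjective
    by_contra hne
    have hne' : U.map φ.toMonoidHom ≠ U := fun e' => hne (by rw [e, e'])
    have hint : U.map φ.toMonoidHom ⊓ U = ⊥ := by
      by_contra hi
      have h1 := hU.eq_of_le ⟨inferInstance, hi, inf_le_right.trans hUT⟩ inf_le_right
      have h2 : U ≤ U.map φ.toMonoidHom := h1.ge.trans inf_le_left
      have hc : Nat.card (U.map φ.toMonoidHom) = Nat.card U :=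
        Subgroup.card_map_of_injective φ.injective
      exact hne' (Subgroup.eq_of_le_of_card_ge h2 hc.le).symm
    have hcomm : V.map (MulAut.conj g).toMonoidHom ≤ centralizer (V : Set G) := by
      rw [e, hV]
      rintro _ ⟨x, hx, rfl⟩
      rw [mem_centralizer_iff]
      rintro _ ⟨y, hy, rfl⟩
      exact congrArg S.subtype
        (Subgroup.commute_of_normal_of_disjoint U _ hUn hU' (disjoint_iff.2 (inf_comm U _ ▸ hint)) y x hy hx).eq
    have h0 := h.eq_bot_of_commute hVns hcomm
    exact hV0 ((Subgroup.map_eq_bot_iff_of_injective _ (MulAut.conj g).injective).1 h0)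
  have hVn : V.Normal := ⟨fun x hx g => hVnorm g ▸ ⟨x, hx, rfl⟩⟩
  have hVeq : V = S := hS.eq_of_le ⟨hVn, hV0⟩ hVS
  rw [eq_top_iff]
  intro x _
  obtain ⟨y, hy, e⟩ := hVeq.ge x.2
  exact hUT (Subtype.ext e ▸ hy)

/-- An element inverting part of a group of prime power orders. -/
theorem mul_self_of_orderOf_two {z : G} (hz : orderOf z = 2) : z * z = 1 := by
  rw [← sq, ← hz, pow_orderOf_eq_one]

/-- The radical of a nonsolvable EPPO group is a 2-group. -/
theorem isPGroup_two_radical [Finite G] (h : Pp G) (R : Subgroup G) [R.Normal] (hQ : ¬ Group.IsSolvable (G ⧸ R))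
    (hrad : ∀ N : Subgroup (G ⧸ R), N.Normal → Group.IsSolvable N → N = ⊥) : IsPGroup 2 R := by
  refine IsPGroup.of_card (n := (Nat.card R).primeFactorsList.length)
    (Nat.eq_prime_pow_of_unique_prime_dvd Nat.card_pos.ne' fun {r} hr hd => ?_)
  by_contra hr2
  haveI := Fact.mk hr
  haveI : Fact (Nat.Prime 2) := ⟨Nat.prime_two⟩
  obtain ⟨T⟩ := (inferInstance : Nonempty (Sylow r R))
  set W : Subgroup G := (T : Subgroup R).map R.subtype with hW
  set N := normalizer (W : Set G) with hN
  have hfr : N ⊔ R = ⊤ := Sylow.normalizer_sup_eq_top T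
  have hWR : W ≤ R := Subgroup.map_subtype_le _
  have hWp : IsPGroup r W := T.isPGroup'.map _
  -- an element of order `r`
  obtain ⟨w, hwW, hw⟩ : ∃ w ∈ W, orderOf w = r := by
    have hdT : r ∣ Nat.card (T : Subgroup R) := by
      rw [T.card_eq_multiplicity]
      exact dvd_pow_self r (hr.factorization_pos_of_dvd Nat.card_pos.ne' hd).ne'
    obtain ⟨w, hw⟩ := exists_prime_orderOf_dvd_card' r hdT
    exact ⟨((w : R) : G), ⟨w, w.2, rfl⟩, by rw [Subgroup.orderOf_coe, Subgroup.orderOf_coe]; exact hw⟩
  -- lifting elements of prime order into a given subgroup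
  have hlift : ∀ (H : Subgroup G), H ⊔ R = ⊤ → ∀ s : ℕ, s.Prime → s ∣ Nat.card (G ⧸ R) →
      ∃ x ∈ H, orderOf x = s := by
    intro H hH s hs hsd
    haveI := Fact.mk hs
    have hsd' : s ∣ Nat.card H := by
      have h1 : (H.map (QuotientGroup.mk' R)) = ⊤ := by
        rw [← sup_bot_eq (H.map (QuotientGroup.mk' R)), ← QuotientGroup.map_mk'_self R, ← Subgroup.map_sup, hH,
          ← MonoidHom.range_eq_map]
        exact MonoidHom.range_eq_top.2 (QuotientGroup.mk'_surjective R)
      have h2 := Subgroup.card_map_dvd H (QuotientGroup.mk' R)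
      rw [h1, Subgroup.card_top] at h2
      exact hsd.trans h2
    obtain ⟨x, hx⟩ := exists_prime_orderOf_dvd_card' s hsd'
    exact ⟨x, x.2, by rw [Subgroup.orderOf_coe]; exact hx⟩
  have h2Q : 2 ∣ Nat.card (G ⧸ R) := by
    by_contra h2
    exact hQ (OddOrderTheorem.solvable (Nat.not_even_iff_odd.1 fun e => h2 (even_iff_two_dvd.1 e)))
  obtain ⟨z, hzN, hz⟩ := hlift N hfr 2 Nat.prime_two h2Q
  -- `z` inverts `W`
  have hinv : ∀ y ∈ N, orderOf y = 2 → ∀ x ∈ W, y * x * y⁻¹ = x⁻¹ := by
    intro y hy ho x hx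
    let φ : W →* W :=
      { toFun := fun v => ⟨y * v * y⁻¹, (Subgroup.mem_normalizer_iff.1 hy v).1 v.2⟩
        map_one' := Subtype.ext (by simp)
        map_mul' := fun a b => Subtype.ext (by simp [mul_assoc]) }
    have hfix : MonoidHom.FixedPointFree φ := by
      intro v hv
      by_contra hv1
      have hv' : y * (v : G) * y⁻¹ = v := congrArg Subtype.val hv
      have hne : (v : G) ≠ 1 := fun e => hv1 (Subtype.ext e)
      obtain ⟨k, hk⟩ := IsPGroup.iff_orderOf.1 hWp v
      have hd' : r ∣ orderOf (v : G) := by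
        rw [Subgroup.orderOf_coe, hk]
        rcases k with _ | k
        · exact absurd (by simpa using hk) hv1
        · exact dvd_pow_self r k.succ_ne_zero
      exact hr2 (h.orderOf_dvd_of_commute Nat.prime_two ho (mul_inv_eq_iff_eq_mul.1 hv') hr hd')
    have hinvol : Function.Involutive φ := fun v => Subtype.ext (by
      show y * (y * (v : G) * y⁻¹) * y⁻¹ = v
      have hy2 := mul_self_of_orderOf_two ho
      rw [inv_eq_of_mul_eq_one_right hy2]
      calc y * (y * (v : G) * y) * y = y * y * v * (y * y) := by group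
        _ = v := by rw [hy2, one_mul, mul_one])
    exact congrArg Subtype.val (congrFun (hfix.coe_eq_inv_of_involutive hinvol) ⟨x, hx⟩)
  -- the centraliser of `W` is an `r`-group inside `R`
  set C := centralizer (W : Set G) with hC
  have hCp : IsPGroup r C := (h.isPGroup_centralizer hr hw).to_le
    (centralizer_le (Set.singleton_subset_iff.2 hwW))
  have hCN : ∀ g ∈ N, ∀ c ∈ C, g * c * g⁻¹ ∈ C := by
    intro g hg c hc
    rw [hC, mem_centralizer_iff]
    intro v hv
    have hv' : g⁻¹ * v * g ∈ (W : Set G) := by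
      have := (Subgroup.mem_normalizer_iff.1 (inv_mem hg) v).1 hv
      simpa using this
    have := mem_centralizer_iff.1 hc _ hv'
    calc v * (g * c * g⁻¹) = g * ((g⁻¹ * v * g) * c) * g⁻¹ := by group
      _ = g * (c * (g⁻¹ * v * g)) * g⁻¹ := by rw [this]
      _ = _ := by group
  have hCNle : C ≤ N := fun c hc => Subgroup.mem_normalizer_iff.2 fun v => by
    have key : ∀ v ∈ W, c * v * c⁻¹ = v := fun v hv => by
      rw [← mem_centralizer_iff.1 hc v hv, mul_inv_cancel_right]
    refine ⟨fun hv => (key v hv).symm ▸ hv, fun hv => ?_⟩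
    have := key _ hv
    have e : c * v * c⁻¹ = v := by
      have h1 := congrArg (fun t => c⁻¹ * t * c) this
      simpa [mul_assoc] using h1
    rwa [e] at hv
  have hprod : ∀ y ∈ N, orderOf y = 2 → z * y ∈ C := by
    intro y hy ho
    rw [hC, mem_centralizer_iff]
    intro v hv
    have h1 : z * (y * v * y⁻¹) * z⁻¹ = v := by
      rw [hinv y hy ho v hv, hinv z hzN hz _ (inv_mem hv), inv_inv]
    calc v * (z * y) = z * (y * v * y⁻¹) * z⁻¹ * (z * y) := by rw [h1]
      _ = z * y * v := by group
  -- the image of `C` is trivial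
  have hCR : C ≤ R := by
    have hn : (C.map (QuotientGroup.mk' R)).Normal := by
      refine ⟨fun x hx g => ?_⟩
      obtain ⟨c, hc, rfl⟩ := hx
      obtain ⟨g, rfl⟩ := QuotientGroup.mk'_surjective R g
      obtain ⟨a, ha, b, hb, rfl⟩ : ∃ a ∈ N, ∃ b ∈ R, a * b = g := by
        have hg : g ∈ ((N ⊔ R : Subgroup G) : Set G) := by rw [hfr]; exact mem_top g
        rwa [Subgroup.mul_normal, Set.mem_mul] at hg
      refine ⟨a * c * a⁻¹, hCN a ha c hc, ?_⟩
      have hb1 : QuotientGroup.mk' R b = 1 := (QuotientGroup.eq_one_iff b).2 hb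
      simp only [map_mul, map_inv, hb1, mul_one]
    have hs : Group.IsSolvable (C.map (QuotientGroup.mk' R)) := by
      haveI := (hCp.map (QuotientGroup.mk' R)).isNilpotent
      infer_instance
    have := hrad _ hn hs
    rwa [Subgroup.map_eq_bot_iff, QuotientGroup.ker_mk'] at this
  -- so the image of `z` is central
  have hzR : z ∈ R := by
    have hcen : Subgroup.zpowers (QuotientGroup.mk' R z) ≤ center (G ⧸ R) := by
      rw [zpowers_le, mem_center_iff]
      intro g
      obtain ⟨g, rfl⟩ := QuotientGroup.mk'_surjective R g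
      obtain ⟨a, ha, b, hb, rfl⟩ : ∃ a ∈ N, ∃ b ∈ R, a * b = g := by
        have hg : g ∈ ((N ⊔ R : Subgroup G) : Set G) := by rw [hfr]; exact mem_top g
        rwa [Subgroup.mul_normal, Set.mem_mul] at hg
      have h1 : QuotientGroup.mk' R (z * (a * z * a⁻¹)) = 1 := (QuotientGroup.eq_one_iff _).2 (hCR
        (hprod _ (mul_mem (mul_mem ha hzN) (inv_mem ha))
          (by rw [show a * z * a⁻¹ = MulAut.conj a z from rfl, MulEquiv.orderOf_eq]; exact hz)))
      have hb1 : QuotientGroup.mk' R b = 1 := (QuotientGroup.eq_one_iff b).2 hb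
      have hz1 : QuotientGroup.mk' R z * QuotientGroup.mk' R z = 1 := by
        rw [← map_mul, mul_self_of_orderOf_two hz, map_one]
      rw [map_mul, hb1, mul_one]
      rw [map_mul, map_mul, map_mul, map_inv] at h1
      generalize QuotientGroup.mk' R z = Z at h1 hz1 ⊢
      generalize QuotientGroup.mk' R a = A at h1 ⊢
      calc A * Z = (Z * Z) * (A * Z) := by rw [hz1, one_mul]
        _ = Z * (Z * (A * Z * A⁻¹)) * A := by group
        _ = Z * A := by rw [h1, mul_one]
    have := hrad _ ⟨fun x hx g => by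
      rw [mem_center_iff.1 (hcen hx) g, mul_inv_cancel_right]; exact hx⟩ inferInstance
    rwa [Subgroup.zpowers_eq_bot, ← MonoidHom.mem_ker, QuotientGroup.ker_mk'] at this
  -- the centraliser of `z` still covers the quotient
  have hcz : centralizer ({z} : Set G) ⊔ R = ⊤ := by
    rw [eq_top_iff, ← hfr]
    refine sup_le (fun g hg => ?_) le_sup_right
    have hy : orderOf (g * z * g⁻¹) = 2 := by
      rw [show g * z * g⁻¹ = MulAut.conj g z from rfl, MulEquiv.orderOf_eq]; exact hz
    have hc := hprod _ (mul_mem (mul_mem hg hzN) (inv_mem hg)) hy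
    -- a square root of the product lies in `C`
    set c := z * (g * z * g⁻¹) with hcdef
    obtain ⟨k, hk⟩ := IsPGroup.iff_orderOf.1 hCp ⟨c, hc⟩
    have hodd : Odd (r ^ k) := (hr.odd_of_ne_two hr2).pow
    obtain ⟨j, hj⟩ := hodd
    have hck : c ^ (2 * j + 1) = 1 := by
      rw [← hj, ← hk, Subgroup.orderOf_mk, pow_orderOf_eq_one]
    set d := c ^ (j + 1) with hd'
    have hdd : d * d = c := by
      rw [hd', ← pow_add, show j + 1 + (j + 1) = 2 * j + 1 + 1 by ring, pow_succ, hck, one_mul]
    have hz2 := mul_self_of_orderOf_two hz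
    have hzd : z * d = d⁻¹ * z := by
      have hy2 := mul_self_of_orderOf_two hy
      have h1 : z * c * z⁻¹ = c⁻¹ := by
        rw [eq_inv_iff_mul_eq_one, hcdef, inv_eq_of_mul_eq_one_right hz2]
        calc z * (z * (g * z * g⁻¹)) * z * (z * (g * z * g⁻¹))
            = (z * z) * (g * z * g⁻¹) * (z * z) * (g * z * g⁻¹) := by group
          _ = 1 := by rw [hz2, one_mul, mul_one, hy2]
      have h2 : z * d * z⁻¹ = d⁻¹ := by rw [hd', ← conj_pow, h1, inv_pow]
      rw [← h2, inv_mul_cancel_right]
    have hgz : g * z * g⁻¹ = d⁻¹ * z * d := by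
      have h1 : g * z * g⁻¹ = z * c := by rw [hcdef, ← mul_assoc, hz2, one_mul]
      rw [h1, ← hzd, mul_assoc, hdd]
    have hmem : d * g ∈ centralizer ({z} : Set G) := by
      rw [mem_centralizer_singleton_iff]
      calc d * g * z = d * (g * z * g⁻¹) * g := by group
        _ = z * (d * g) := by rw [hgz]; group
    have hdR : d ∈ R := pow_mem (hCR hc) _
    rw [show g = d⁻¹ * (d * g) by group]
    exact mul_mem (mem_sup_right (inv_mem hdR)) (mem_sup_left hmem)
  obtain ⟨q, hq, hq2, hqd⟩ := exists_two_primes hQ 2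
  obtain ⟨x, hx, hxo⟩ := hlift _ hcz q hq hqd
  exact hq2 (h.prime_eq Nat.prime_two hq hz hxo (mem_centralizer_singleton_iff.1 hx).symm).symm

/-- Every prime of an almost simple EPPO group divides the order of the socle. -/
theorem dvd_card_of_normal [Finite G] (h : Pp G) (S : Subgroup G) [S.Normal] (hns : ¬ Group.IsSolvable S)
    (hC : centralizer (S : Set G) = ⊥) {r : ℕ} (hr : r.Prime) (hd : r ∣ Nat.card G) : r ∣ Nat.card S := by
  by_contra hrS
  haveI := Fact.mk hr
  obtain ⟨x, hx⟩ := exists_prime_orderOf_dvd_card' r hd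
  set α : MulAut S := MulAut.conjNormal x with hα
  have hα1 : α ≠ 1 := by
    intro e
    have hxC : x ∈ centralizer (S : Set G) := mem_centralizer_iff.2 fun s hs => by
      have h1 : x * s * x⁻¹ = s := by
        have := congrArg (fun f : MulAut S => ((f ⟨s, hs⟩ : S) : G)) e
        simpa [hα] using this
      exact (mul_inv_eq_iff_eq_mul.1 h1).symm
    rw [hC, mem_bot] at hxC
    rw [hxC, orderOf_one] at hx
    exact hr.ne_one hx.symm
  have hαr : orderOf α = r := orderOf_eq_prime (by rw [hα, ← map_pow, ← hx, pow_orderOf_eq_one, map_one]) hα1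
  by_cases hfpf : ∀ g : S, α g = g → g = 1
  · haveI := FPF.isNilpotent_of_fpf_mulAut α hαr hfpf
    exact hns inferInstance
  · push Not at hfpf
    obtain ⟨g, hg, hg1⟩ := hfpf
    have hc : x * (g : G) = g * x := by
      have := congrArg (fun s : S => (s : G)) hg
      simp [hα] at this
      exact mul_inv_eq_iff_eq_mul.1 this
    obtain ⟨s, hs, hsd⟩ := Nat.exists_prime_and_dvd (orderOf_eq_one_iff.not.2 hg1)
    have := h.orderOf_dvd_of_commute hr hx hc hs (by rwa [Subgroup.orderOf_coe])
    exact hrS (this ▸ hsd.trans (orderOf_dvd_natCard g))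

end Cfsg.Agent.EPPO
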