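import Cfsg.Agent.EqLemmas
import Cfsg.Agent.Lib.EPPO.Structure

/-!
Extensions of simple groups in which every element has prime power order.

* `index_data` : what a prime dividing the order of a normal subgroup exactly once says about the index
* `eq_top_of_two_primes` : two such primes force equality
-/

set_option autoImplicit false

open Subgroup

namespace Cfsg.Agent.EPPO

universe u

variable {Q : Type u} [Group Q] [Finite Q]

theorem index_data (h : Pp Q) (S : Subgroup Q) [S.Normal] {p : ℕ} (hp : p.Prime) (hd : p ∣ Nat.card S)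
    (hd2 : ¬ p ^ 2 ∣ Nat.card S) :
    ∃ e e' a k : ℕ, p * e * k = Nat.card S ∧ k % p = 1 ∧ e ∣ e' ∧ e' ∣ p - 1 ∧
      (∀ r s : ℕ, r.Prime → s.Prime → r ∣ e' → s ∣ e' → r = s) ∧ S.index * (p * e) = p ^ a * e' := by
  haveI := Fact.mk hp
  obtain ⟨T⟩ := (inferInstance : Nonempty (Sylow p S))
  set W : Subgroup Q := (T : Subgroup S).map S.subtype with hW
  set N := normalizer (W : Set Q) with hN
  set C := centralizer (W : Set Q) with hC
  have hfr : N ⊔ S = ⊤ := Sylow.normalizer_sup_eq_top T
  have hWS : W ≤ S := Subgroup.map_subtype_le _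
  -- a subgroup of `S` of `p`-power order containing `W` has order `p`
  have hsmall : ∀ H : Subgroup Q, IsPGroup p H → W ≤ H → H ≤ S → Nat.card H = p := by
    intro H hH hWH hHS
    obtain ⟨n, hn⟩ := IsPGroup.iff_card.1 hH
    have h1 : p ∣ Nat.card (T : Subgroup S) := T.dvd_card_of_dvd_card hd
    rw [← Subgroup.card_map_of_injective S.subtype_injective (K := (T : Subgroup S))] at h1
    have h2 : p ∣ Nat.card H := h1.trans (Subgroup.card_dvd_of_le hWH)
    have h3 := Subgroup.card_dvd_of_le hHS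
    rw [hn] at h2 h3 ⊢
    rcases n with _ | _ | n
    · rw [pow_zero, Nat.dvd_one] at h2
      exact absurd h2 hp.ne_one
    · exact pow_one p
    · exact absurd ((pow_dvd_pow p (by omega : 2 ≤ n + 2)).trans h3) hd2
  have hWcard : Nat.card W = p := hsmall W (T.isPGroup'.map _) le_rfl hWS
  haveI : IsCyclic W := isCyclic_of_prime_card hWcard
  obtain ⟨w, hw⟩ := exists_prime_orderOf_dvd_card' (G := W) p (by rw [hWcard])
  have hCp : IsPGroup p C := (h.isPGroup_centralizer hp (a := (w : Q)) (by rw [Subgroup.orderOf_coe]; exact hw)).to_le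
    (centralizer_le (Set.singleton_subset_iff.2 w.2))
  have hCN : C ≤ N := Subgroup.centralizer_le_normalizer (W : Set Q)
  have hWC : W ≤ C := by
    intro x hx
    rw [hC, mem_centralizer_iff]
    intro y hy
    letI := IsCyclic.commGroup (α := W)
    exact congrArg Subtype.val (mul_comm (⟨y, hy⟩ : W) ⟨x, hx⟩)
  set φ : N →* MulAut W := W.normalizerMonoidHom with hφ
  have hker : φ.ker = C.subgroupOf N := W.normalizerMonoidHom_ker
  set ψ : ↥(N ⊓ S) →* MulAut W := φ.comp (Subgroup.inclusion inf_le_left) with hψ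
  obtain ⟨a, ha⟩ := IsPGroup.iff_card.1 hCp
  refine ⟨Nat.card ψ.range, Nat.card φ.range, a, Nat.card (Sylow p S), ?_, ?_, ?_, ?_, ?_, ?_⟩
  case refine_2 =>
    have := Nat.ModEq.symm (card_sylow_modEq_one p S)
    unfold Nat.ModEq at this
    rw [Nat.mod_eq_of_lt hp.one_lt] at this
    exact this.symm
  case refine_3 => exact Subgroup.card_dvd_of_le (by rintro _ ⟨x, rfl⟩; exact ⟨_, rfl⟩)
  case refine_4 =>
    have h1 := Subgroup.card_subgroup_dvd_card φ.range
    rwa [IsCyclic.card_mulAut, hWcard, Nat.totient_prime hp] at h1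
  case refine_5 =>
    intro r s hr hs hrd hsd
    haveI := Fact.mk hr
    haveI := Fact.mk hs
    obtain ⟨x, hx⟩ := exists_prime_orderOf_dvd_card' r hrd
    obtain ⟨y, hy⟩ := exists_prime_orderOf_dvd_card' s hsd
    refine ((h.subgroup N).of_surjective φ.rangeRestrict φ.rangeRestrict_surjective).prime_eq hr hs hx hy ?_
    apply Subtype.ext
    apply (IsCyclic.mulAutMulEquiv W).injective
    rw [Subgroup.coe_mul, Subgroup.coe_mul, map_mul, map_mul, mul_comm]
  all_goals
    have hkψ : Nat.card ψ.ker = p := by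
      have e : ψ.ker.map (N ⊓ S).subtype = C ⊓ S := by
        ext x
        rw [Subgroup.mem_map]
        constructor
        · rintro ⟨y, hy, rfl⟩
          refine ⟨?_, y.2.2⟩
          have : Subgroup.inclusion inf_le_left y ∈ φ.ker := hy
          rw [hker] at this
          exact this
        · rintro ⟨hxC, hxS⟩
          refine ⟨⟨x, hCN hxC, hxS⟩, ?_, rfl⟩
          show Subgroup.inclusion inf_le_left (⟨x, hCN hxC, hxS⟩ : ↥(N ⊓ S)) ∈ φ.ker
          rw [hker]
          exact hxC
      rw [← Subgroup.card_map_of_injective (N ⊓ S).subtype_injective, e]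
      exact hsmall _ (hCp.to_le inf_le_left) (le_inf hWC hWS) inf_le_right
    have hNS : Nat.card ↥(N ⊓ S) = p * Nat.card ψ.range := by
      rw [← hkψ, ← Subgroup.index_ker, Subgroup.card_mul_index]
  · -- the Sylow count
    have e : normalizer ((T : Subgroup S) : Set S) = N.subgroupOf S := by
      ext x
      rw [Subgroup.mem_subgroupOf, hN, Subgroup.mem_normalizer_iff, Subgroup.mem_normalizer_iff]
      constructor
      · intro hx y
        constructor
        · rintro ⟨z, hz, rfl⟩
          exact ⟨x * z * x⁻¹, (hx z).1 hz, rfl⟩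
        · rintro ⟨z, hz, e⟩
          refine ⟨x⁻¹ * z * x, (hx _).2 ?_, ?_⟩
          · rwa [show x * (x⁻¹ * z * x) * x⁻¹ = z by group]
          · simp only [Subgroup.coe_subtype, Subgroup.coe_mul, Subgroup.coe_inv] at e ⊢
            rw [e]; group
      · intro hx z
        exact ⟨fun hz => (Subgroup.mem_map_iff_mem S.subtype_injective).1 ((hx z).1 ⟨z, hz, rfl⟩),
          fun hz => (Subgroup.mem_map_iff_mem S.subtype_injective).1
            ((hx z).2 (⟨x * z * x⁻¹, hz, rfl⟩ : ((x * z * x⁻¹ : S) : Q) ∈ W))⟩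
    rw [← hNS, Sylow.card_eq_index_normalizer T, ← T.coe_coe, e]
    have h1 := Subgroup.card_mul_index (N.subgroupOf S)
    rw [show Nat.card (N.subgroupOf S) = Nat.card ↥(N ⊓ S) by
      rw [← Subgroup.inf_subgroupOf_right]
      exact Nat.card_congr (Subgroup.subgroupOfEquivOfLe inf_le_right).toEquiv] at h1
    exact h1
  · -- the second isomorphism theorem
    have h1 : S.relIndex N = S.index := by
      rw [← Subgroup.relIndex_top_right, ← hfr, Subgroup.relIndex_sup_right]
    have h2 := Subgroup.card_mul_index (S.subgroupOf N)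
    rw [show (S.subgroupOf N).index = S.relIndex N from rfl, h1,
      show Nat.card (S.subgroupOf N) = Nat.card ↥(N ⊓ S) by
        rw [← Subgroup.inf_subgroupOf_left]
        exact Nat.card_congr (Subgroup.subgroupOfEquivOfLe inf_le_left).toEquiv] at h2
    have h3 := Subgroup.card_mul_index φ.ker
    rw [Subgroup.index_ker, hker, Nat.card_congr (Subgroup.subgroupOfEquivOfLe hCN).toEquiv, ha] at h3
    rw [← hNS, mul_comm, h2, h3]

/-- Two primes dividing the order of `S` exactly once, the first with full Sylow normalizer. -/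
theorem eq_top_of_two_primes (h : Pp Q) (S : Subgroup Q) [S.Normal] {p q : ℕ} (hp : p.Prime) (hq : q.Prime)
    (hpd : p ∣ Nat.card S) (hpd2 : ¬ p ^ 2 ∣ Nat.card S) (hqd : q ∣ Nat.card S) (hqd2 : ¬ q ^ 2 ∣ Nat.card S)
    (hpq : ¬ p ∣ q * (q - 1))
    (hfull : ∀ e e' k : ℕ, e' ∣ p - 1 → e ∣ e' → p * e * k = Nat.card S → k % p = 1 →
      (∀ r s : ℕ, r.Prime → s.Prime → r ∣ e' → s ∣ e' → r = s) → e = e') :
    S = ⊤ := by
  obtain ⟨e, e', a, k, h1, h2, h3, h4, h5, h6⟩ := index_data h S hp hpd hpd2
  obtain ⟨f, f', b, l, -, -, -, g4, -, g6⟩ := index_data h S hq hqd hqd2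
  obtain rfl := hfull e e' k h4 h3 h1 h2 h5
  have he : e ≠ 0 := fun e0 => by
    rw [e0, mul_zero, zero_mul] at h1
    exact Nat.card_pos.ne' h1.symm
  have hi : S.index ∣ p ^ a := by
    refine Dvd.intro p ?_
    rw [← Nat.mul_left_inj he, mul_assoc, h6]
  rw [← Subgroup.index_eq_one]
  refine Nat.eq_one_of_dvd_coprimes (a := p ^ a) (b := q ^ b * f') (Nat.Coprime.pow_left a ?_) hi (Dvd.intro _ g6)
  rw [hp.coprime_iff_not_dvd]
  intro hdvd
  rcases hp.dvd_mul.1 hdvd with hd | hd
  · exact hpq (dvd_mul_of_dvd_left (hp.dvd_of_dvd_pow hd) _)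
  · exact hpq (dvd_mul_of_dvd_right (hd.trans g4) _)

end Cfsg.Agent.EPPO
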