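import Cfsg.Agent.EqLemmas
import Mathlib.RingTheory.ZMod.UnitsCyclic

/-!
Small exponential equations arising from groups in which every element has prime power order.

* `two_pow_add_one_eq`, `two_pow_sub_one_eq` : `2 ^ n ± 1 = 3 ^ b`
* `suzuki_five` : `2 ^ (2 m + 1) ± 2 ^ (m + 1) + 1 = 5 ^ b` forces `m ≤ 2`
* `prime_pow_of_three_dvd` : a prime power divisible by three is a power of three
-/

set_option autoImplicit false

namespace Cfsg.Agent.EPPO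

theorem eq_pow_of_prime_dvd {n p : ℕ} (hn : IsPrimePow n) (hp : p.Prime) (h : p ∣ n) : ∃ b, n = p ^ b := by
  obtain ⟨r, k, hr, hk, rfl⟩ := hn
  have := (Nat.prime_dvd_prime_iff_eq hp hr.nat_prime).1 (hp.dvd_of_dvd_pow h)
  exact ⟨k, by rw [this]⟩

theorem two_pow_add_one_eq {n b : ℕ} (h : 2 ^ n + 1 = 3 ^ b) : n ≤ 1 ∨ n = 3 := by
  rcases Nat.even_or_odd b with ⟨c, rfl⟩ | ⟨c, rfl⟩
  · -- `2 ^ n = (3 ^ c - 1) (3 ^ c + 1)`
    have hx : 1 ≤ 3 ^ c := Nat.one_le_pow _ _ (by norm_num)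
    obtain ⟨x, hx'⟩ : ∃ x, 3 ^ c = x + 1 := ⟨3 ^ c - 1, by omega⟩
    have e : 2 ^ n = x * (x + 2) := by
      have h' : 2 ^ n + 1 = (x + 1) * (x + 1) := by rw [h, pow_add, hx']
      nlinarith
    obtain ⟨i, -, hi⟩ := (Nat.dvd_prime_pow Nat.prime_two).1 (Dvd.intro _ e.symm)
    obtain ⟨j, -, hj⟩ := (Nat.dvd_prime_pow Nat.prime_two).1 (Dvd.intro_left _ e.symm)
    subst hi
    rcases i with _ | _ | i
    · exfalso
      have : (2 : ℕ) ^ j = 3 := by simpa using hj.symm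
      rcases j with _ | _ | j
      · simp at this
      · simp at this
      · have : 4 ∣ 2 ^ (j + 2) := ⟨2 ^ j, by rw [pow_add]; ring⟩
        omega
    · right
      have : (2 : ℕ) ^ n = 2 ^ 3 := by rw [e]; norm_num
      exact Nat.pow_right_injective (le_refl 2) this
    · exfalso
      have h1 : 4 ∣ 2 ^ (i + 2) := ⟨2 ^ i, by rw [pow_add]; ring⟩
      have hpos : 0 < 2 ^ (i + 2) := by positivity
      rcases j with _ | _ | j
      · rw [pow_zero] at hj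
        generalize 2 ^ (i + 2) = u at *
        omega
      · rw [zero_add, pow_one] at hj
        generalize 2 ^ (i + 2) = u at *
        omega
      · have h2 : 4 ∣ 2 ^ (j + 2) := ⟨2 ^ j, by rw [pow_add]; ring⟩
        generalize 2 ^ (i + 2) = u at *
        generalize 2 ^ (j + 2) = w at *
        omega
  · left
    by_contra hn
    have h1 : 4 ∣ 2 ^ n := pow_dvd_pow 2 (by omega : 2 ≤ n)
    have h2 : 3 ^ (2 * c + 1) % 4 = 3 := by
      rw [pow_succ, pow_mul, Nat.mul_mod, Nat.pow_mod]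
      norm_num
    generalize 2 ^ n = u at *
    generalize 3 ^ (2 * c + 1) = w at *
    omega

theorem two_pow_sub_one_eq {n b : ℕ} (h : 2 ^ n = 3 ^ b + 1) : n ≤ 2 := by
  by_contra hn
  have h1 : 8 ∣ 2 ^ n := pow_dvd_pow 2 (by omega : 3 ≤ n)
  have h2 : 3 ^ b % 8 = 1 ∨ 3 ^ b % 8 = 3 := by
    rcases Nat.even_or_odd b with ⟨c, rfl⟩ | ⟨c, rfl⟩
    · left; rw [← two_mul, pow_mul, Nat.pow_mod]; norm_num
    · right; rw [pow_succ, pow_mul, Nat.mul_mod, Nat.pow_mod]; norm_num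
  omega

/-- A power of five congruent to one modulo `2 ^ (n + 2)` has exponent divisible by `2 ^ n`. -/
theorem two_pow_dvd_of_five {n b : ℕ} (h : 2 ^ (n + 2) ∣ 5 ^ b - 1) : 2 ^ n ∣ b := by
  rw [← ZMod.orderOf_five n]
  apply orderOf_dvd_of_pow_eq_one
  have h1 : ((5 ^ b : ℕ) : ZMod (2 ^ (n + 2))) = ((1 : ℕ) : ZMod (2 ^ (n + 2))) :=
    ((ZMod.natCast_eq_natCast_iff' _ _ _).2
      ((Nat.modEq_iff_dvd' (Nat.one_le_pow _ _ (by norm_num))).2 h)).symm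
  simpa using h1

theorem suzuki_five {m b v : ℕ} (hv : v = 2 ^ (m + 1) * (2 ^ m + 1) ∨ v = 2 ^ (m + 1) * (2 ^ m - 1))
    (h : v + 1 = 5 ^ b) : m ≤ 2 := by
  by_contra hm
  obtain ⟨n, rfl⟩ : ∃ n, m = n + 3 := ⟨m - 3, by omega⟩
  have hd : 2 ^ (n + 2 + 2) ∣ 5 ^ b - 1 := by
    rw [← h, Nat.add_sub_cancel]
    rcases hv with rfl | rfl <;> exact dvd_mul_right _ _
  have h2 := two_pow_dvd_of_five hd
  have hb : b ≠ 0 := by
    rintro rfl
    simp only [pow_zero, Nat.add_eq_right] at h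
    rcases hv with rfl | rfl
    · simp at h
    · have : 8 ≤ 2 ^ (n + 3) := by rw [pow_add]; have := Nat.one_le_two_pow (n := n); omega
      simp at h; omega
  have hle : 2 ^ (n + 2) ≤ b := Nat.le_of_dvd (Nat.pos_of_ne_zero hb) h2
  have hv' : v + 1 ≤ 2 ^ (2 * n + 9) := by
    have h1 : 1 ≤ 2 ^ (n + 3) := Nat.one_le_two_pow
    have e : 2 ^ (2 * n + 9) = 2 ^ (n + 3 + 1) * (4 * 2 ^ (n + 3)) := by
      rw [show (4 : ℕ) = 2 ^ 2 by rfl, ← pow_add, ← pow_add]; ring_nf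
    have h3 : v ≤ 2 ^ (n + 3 + 1) * (2 * 2 ^ (n + 3)) := by
      rcases hv with rfl | rfl <;> exact Nat.mul_le_mul_left _ (by omega)
    have h4 : 1 ≤ 2 ^ (n + 3 + 1) * (2 * 2 ^ (n + 3)) := by
      have := Nat.one_le_two_pow (n := n + 3 + 1); exact Nat.one_le_iff_ne_zero.2 (by positivity)
    calc v + 1 ≤ 2 ^ (n + 3 + 1) * (2 * 2 ^ (n + 3)) + 2 ^ (n + 3 + 1) * (2 * 2 ^ (n + 3)) := by omega
      _ = 2 ^ (2 * n + 9) := by rw [e]; ring
  have h5 : 4 ^ (2 ^ (n + 2)) < 5 ^ b := lt_of_lt_of_le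
    (Nat.pow_lt_pow_left (by norm_num) (by positivity)) (Nat.pow_le_pow_right (by norm_num) hle)
  rw [show (4 : ℕ) = 2 ^ 2 by rfl, ← pow_mul] at h5
  have h6 : 2 * 2 ^ (n + 2) < 2 * n + 9 := (Nat.pow_lt_pow_iff_right (le_refl 2)).1
    (lt_of_lt_of_le h5 (h ▸ hv'))
  rcases n with _ | n
  · -- `b` is at least four
    have h7 : 5 ^ 4 ≤ 5 ^ b := Nat.pow_le_pow_right (by norm_num) hle
    rcases hv with rfl | rfl <;> norm_num at h <;> omega
  · have : n + 2 ≤ 2 ^ (n + 1) := Nat.lt_two_pow_self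
    rw [show n + 1 + 2 = n + 1 + 1 + 1 by ring, pow_succ, pow_succ] at h6
    omega

end Cfsg.Agent.EPPO
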