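import Cfsg.Agent.EqLemmas
import Cfsg.Agent.Lib.EPPO.Numbers
import Cfsg.Agent.Lib.EPPO.Structure
import Cfsg.Agent.Lib.PSL2.Torus
import Cfsg.Agent.Lib.Suzuki.Tori
import Cfsg.Agent.Lib.Suzuki.LieModel
import Cfsg.Agent.Lib.Linear.AltSix
import Cfsg.Agent.S0144
import Cfsg.Agent.S0252
import Cfsg.Agent.S0253

/-!
The simple groups in which every element has prime power order, given the classification of simple
CIT groups.

* `CITClass` : the classification of simple CIT groups, with the Suzuki groups identified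
* `simple_list` : the list
-/

set_option autoImplicit false

open Cfsg

namespace Cfsg.Agent.EPPO

universe u

/-- The classification of the simple CIT groups. -/
def CITClass : Prop :=
  ∀ (G : Type u) [Group G] [Finite G] [IsSimpleGroup G], (∃ a b : G, a * b ≠ b * a) →
    (∀ t : G, orderOf t = 2 → IsPGroup 2 (Subgroup.centralizer ({t} : Set G))) →
    (∃ (F : Type) (_ : Field F) (_ : Fintype F),
        (Fintype.card F = 9 ∨ (∃ n : ℕ, Fintype.card F = 2 ^ n) ∨
          ((Fintype.card F).Prime ∧ ∃ k : ℕ, Fintype.card F = 2 ^ k + 1 ∨ Fintype.card F + 1 = 2 ^ k)) ∧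
        Nonempty (G ≃* Matrix.ProjectiveSpecialLinearGroup (Fin 2) F)) ∨
    (∃ (F : Type) (_ : Field F) (_ : Fintype F), Fintype.card F = 4 ∧
        Nonempty (G ≃* Matrix.ProjectiveSpecialLinearGroup (Fin 3) F)) ∨
    Lie.IsoSuzuki G

/-- `Sz(8)` or `Sz(32)`. -/
def IsSzSmall (G : Type*) [Group G] : Prop :=
  ∃ (F : Type) (_ : Field F) (_ : Fintype F),
    (Fintype.card F = 8 ∧ Nonempty (G ≃* ↥(Lie.Sz F 4))) ∨ (Fintype.card F = 32 ∧ Nonempty (G ≃* ↥(Lie.Sz F 8)))

/-- `L_3(4)`. -/
def IsLThreeFour (G : Type*) [Group G] : Prop :=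
  ∃ (F : Type) (_ : Field F) (_ : Fintype F), Fintype.card F = 4 ∧
    Nonempty (G ≃* Matrix.ProjectiveSpecialLinearGroup (Fin 3) F)

/-- The list of simple groups with all elements of prime power order. -/
def SimpleList (G : Type*) [Group G] : Prop :=
  Nonempty (G ≃* alternatingGroup (Fin 6)) ∨
  (∃ (F : Type) (_ : Field F) (_ : Fintype F), Fintype.card F ∈ ({4, 7, 8, 17} : Finset ℕ) ∧
    Nonempty (G ≃* Matrix.ProjectiveSpecialLinearGroup (Fin 2) F)) ∨
  IsLThreeFour G ∨ IsSzSmall G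

theorem three_dvd_two_pow_add_one {j : ℕ} (hj : Odd j) : 3 ∣ 2 ^ j + 1 := by
  obtain ⟨i, rfl⟩ := hj
  rw [Nat.dvd_iff_mod_eq_zero, Nat.add_mod, pow_succ, pow_mul, Nat.mul_mod, Nat.pow_mod]
  norm_num

theorem three_dvd_two_pow_sub_one {j : ℕ} (hj : Even j) : 3 ∣ 2 ^ j - 1 := by
  obtain ⟨i, rfl⟩ := hj
  have h1 : 2 ^ (i + i) % 3 = 1 := by
    rw [← two_mul, pow_mul, Nat.pow_mod]; norm_num
  omega

/-- A field with four elements. -/
theorem exists_field_four : ∃ (F : Type) (_ : Field F) (_ : Fintype F), Fintype.card F = 4 := by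
  haveI : Fact (Nat.Prime 2) := ⟨Nat.prime_two⟩
  haveI : Fintype (GaloisField 2 2) := Fintype.ofFinite _
  exact ⟨GaloisField 2 2, inferInstance, inferInstance,
    (Fintype.card_eq_nat_card).trans (GaloisField.card 2 2 two_ne_zero)⟩

theorem psl_case {G : Type u} [Group G] [Finite G] [IsSimpleGroup G] (hG : ∃ a b : G, a * b ≠ b * a)
    (h : Pp G) (F : Type) [Field F] [Fintype F]
    (hq : Fintype.card F = 9 ∨ (∃ n : ℕ, Fintype.card F = 2 ^ n) ∨
      ((Fintype.card F).Prime ∧ ∃ k : ℕ, Fintype.card F = 2 ^ k + 1 ∨ Fintype.card F + 1 = 2 ^ k))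
    (e : G ≃* Matrix.ProjectiveSpecialLinearGroup (Fin 2) F) : SimpleList G := by
  -- small fields give solvable groups
  have hne : Fintype.card F ≠ 2 ∧ Fintype.card F ≠ 3 := by
    have key : ∀ a b : ℕ, Nat.card (PSL2.PSL2 F) ≠ 2 ^ a * 3 ^ b := by
      intro a b hab
      obtain ⟨x, y, hxy⟩ := hG
      haveI : Group.IsSolvable G := S0144.result 2 3 a b Nat.prime_two Nat.prime_three
        ((Nat.card_congr e.toEquiv).trans hab)
      exact hxy (IsSimpleGroup.comm_iff_isSolvable.2 inferInstance x y)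
    have hc := PSL2.card_psl_mul (F := F)
    constructor <;> intro hF <;> rw [Nat.card_eq_fintype_card (α := F), hF] at hc <;> norm_num at hc
    · exact key 1 1 (by rw [hc]; norm_num)
    · exact key 2 1 (by norm_num; omega)
  obtain ⟨p, hp⟩ := CharP.exists F
  haveI : Fact p.Prime := ⟨CharP.char_is_prime F p⟩
  have hP : Pp (Matrix.ProjectiveSpecialLinearGroup (Fin 2) F) := h.of_surjective e.toMonoidHom e.surjective
  obtain ⟨ym, yp, hm, hpl, -⟩ := PSL2.exists_torus_conj (F := F) p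
  rw [Nat.card_eq_fintype_card] at hm hpl
  have hpm : ∀ {y : PSL2.PSL2 F} {N : ℕ}, orderOf y = N → 2 ≤ N → IsPrimePow N := fun {y N} hy hN =>
    hy ▸ hP y fun e1 => by rw [e1, orderOf_one] at hy; omega
  have hlist : Fintype.card F ∈ ({4, 7, 8, 17} : Finset ℕ) → SimpleList G := fun hF =>
    Or.inr (Or.inl ⟨F, inferInstance, inferInstance, hF, ⟨e⟩⟩)
  rcases hq with h9 | ⟨n, hn⟩ | ⟨hprime, k, hk⟩
  · obtain ⟨f⟩ := Linear.nonempty_pslTwo_nine h9
    exact Or.inl ⟨e.trans f⟩
  · have hn2 : 2 ≤ n := by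
      by_contra hlt
      interval_cases n
      · exact absurd hn (by simpa using Fintype.one_lt_card.ne')
      · exact hne.1 hn
    have hd : Nat.gcd 2 (2 ^ n - 1) = 1 := by
      refine (Nat.prime_two.coprime_iff_not_dvd).2 fun hd => ?_
      have : 2 ∣ 2 ^ n := dvd_pow_self 2 (by omega)
      have := Nat.one_le_two_pow (n := n)
      omega
    rw [hn, hd, Nat.div_one] at hm hpl
    have h4 : 4 ≤ 2 ^ n := (Nat.pow_le_pow_right two_pos hn2)
    rcases Nat.even_or_odd n with hev | hod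
    · obtain ⟨b, hb⟩ := eq_pow_of_prime_dvd (hpm hm (by omega)) Nat.prime_three (three_dvd_two_pow_sub_one hev)
      have := two_pow_sub_one_eq (n := n) (b := b) (by omega)
      obtain rfl : n = 2 := by omega
      exact hlist (by rw [hn]; decide)
    · obtain ⟨b, hb⟩ := eq_pow_of_prime_dvd (hpm hpl (by omega)) Nat.prime_three (three_dvd_two_pow_add_one hod)
      rcases two_pow_add_one_eq hb with h1 | rfl
      · omega
      · exact hlist (by rw [hn]; decide)
  · rcases hk with hk | hk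
    · rcases k with _ | _ | j
      · exact absurd hk hne.1
      · exact absurd hk hne.2
      have hev : Even j := by
        rcases Nat.even_or_odd j with hj | hj
        · exact hj
        exfalso
        have h3 : 3 ∣ Fintype.card F := hk ▸ three_dvd_two_pow_add_one (j := j + 1 + 1) (hj.add_even even_two)
        exact hne.2 ((Nat.prime_dvd_prime_iff_eq Nat.prime_three hprime).1 h3).symm
      have h2 : (2 ^ (j + 1 + 1) + 1 + 1) / Nat.gcd 2 (2 ^ (j + 1 + 1) + 1 - 1) = 2 ^ (j + 1) + 1 := by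
        rw [Nat.add_sub_cancel, Nat.gcd_eq_left (dvd_pow_self 2 (by omega)), pow_succ]
        omega
      rw [hk, h2] at hpl
      obtain ⟨b, hb⟩ := eq_pow_of_prime_dvd (hpm hpl (by have := Nat.one_le_two_pow (n := j + 1); omega))
        Nat.prime_three (three_dvd_two_pow_add_one hev.add_one)
      rcases two_pow_add_one_eq hb with h1 | h1
      · obtain rfl : j = 0 := by omega
        obtain ⟨K, iK, iF, hK⟩ := exists_field_four
        obtain ⟨f⟩ := S0253.result (F := F) (by rw [hk]; norm_num)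
        obtain ⟨g⟩ := S0252.result hK
        exact Or.inr (Or.inl ⟨K, iK, iF, by rw [hK]; decide, ⟨(e.trans f).trans g.symm⟩⟩)
      · obtain rfl : j = 2 := by omega
        exact hlist (by rw [hk]; decide)
    · rcases k with _ | _ | j
      · exact absurd (by omega : Fintype.card F = 0) Fintype.card_ne_zero
      · exact absurd (by omega : Fintype.card F = 1) Fintype.one_lt_card.ne'
      rcases j with _ | j
      · exact absurd (by omega : Fintype.card F = 3) hne.2
      have hev : Even j := by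
        rcases Nat.even_or_odd j with hj | hj
        · exact hj
        exfalso
        have h3 : 3 ∣ 2 ^ (j + 1 + 1 + 1) - 1 := three_dvd_two_pow_sub_one (by
          obtain ⟨i, rfl⟩ := hj; exact ⟨i + 2, by ring⟩)
        rw [show 2 ^ (j + 1 + 1 + 1) - 1 = Fintype.card F by omega] at h3
        exact hne.2 ((Nat.prime_dvd_prime_iff_eq Nat.prime_three hprime).1 h3).symm
      have hc : Fintype.card F - 1 = 2 * (2 ^ (j + 1 + 1) - 1) := by
        have : 2 ^ (j + 1 + 1 + 1) = 2 * 2 ^ (j + 1 + 1) := pow_succ' 2 _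
        omega
      rw [hc, Nat.gcd_eq_left (dvd_mul_right 2 _), Nat.mul_div_cancel_left _ two_pos] at hm
      have h4 : 4 ≤ 2 ^ (j + 1 + 1) := Nat.pow_le_pow_right two_pos (by omega : 2 ≤ j + 1 + 1)
      obtain ⟨b, hb⟩ := eq_pow_of_prime_dvd (hpm hm (by omega)) Nat.prime_three
        (three_dvd_two_pow_sub_one (by obtain ⟨i, rfl⟩ := hev; exact ⟨i + 1, by ring⟩))
      have := two_pow_sub_one_eq (n := j + 1 + 1) (b := b) (by omega)
      obtain rfl : j = 0 := by omega
      exact hlist (by rw [show Fintype.card F = 7 by norm_num at hk; omega]; decide)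

theorem suzuki_case {G : Type u} [Group G] [Finite G] (h : Pp G) (hS : Lie.IsoSuzuki G) : IsSzSmall G := by
  obtain ⟨F, iF, iT, m, hm, hF, ⟨e⟩⟩ := hS
  set f := e.trans (Suzuki.lieEquiv hm hF).symm with hf
  have hP : Pp (Sz F m) := h.of_surjective f.toMonoidHom f.surjective
  haveI : Finite (Sz F m) := Finite.of_equiv G f.toEquiv
  have key : ∀ g : Sz F m, Suzuki.FPF g → IsPrimePow (Nat.card (Suzuki.torus g)) := fun g hg => by
    haveI := Suzuki.cyclic_centralizer_of_fpf hm hF hg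
    obtain ⟨c, hc⟩ := IsCyclic.exists_ofOrder_eq_natCard (α := Suzuki.torus g)
    rw [← hc, ← Subgroup.orderOf_coe]
    refine hP _ fun e1 => ?_
    have := Suzuki.five_le_card_torus hm hF hg
    rw [← hc, ← Subgroup.orderOf_coe, e1, orderOf_one] at this
    omega
  obtain ⟨⟨g, hg, hA⟩, g', hg', hB⟩ := Suzuki.exists_torus hm hF
  have h5 : 5 ∣ Suzuki.torusA m * Suzuki.torusB m := by
    rw [Suzuki.torusA_mul_torusB, Nat.dvd_iff_mod_eq_zero, Nat.add_mod, ← pow_mul, mul_comm, pow_mul,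
      Nat.pow_mod, pow_succ, pow_mul, Nat.mul_mod, Nat.pow_mod]
    norm_num
  have hs := Suzuki.sigma_le m
  have e2 : 2 ^ (2 * m + 1) = 2 ^ (m + 1) * 2 ^ m := by rw [← pow_add]; ring_nf
  have hm2 : m ≤ 2 := by
    rcases (Nat.prime_five.dvd_mul).1 h5 with hd | hd
    · obtain ⟨b, hb⟩ := eq_pow_of_prime_dvd (hA ▸ key g hg) Nat.prime_five hd
      refine suzuki_five (Or.inl rfl) (b := b) ?_
      rw [← hb, Suzuki.torusA, e2, mul_add, mul_one]
    · obtain ⟨b, hb⟩ := eq_pow_of_prime_dvd (hB ▸ key g' hg') Nat.prime_five hd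
      refine suzuki_five (Or.inr rfl) (b := b) ?_
      rw [← hb, Suzuki.torusB, e2, Nat.mul_sub, mul_one]
  obtain rfl | rfl : m = 1 ∨ m = 2 := by omega
  · exact ⟨F, iF, iT, Or.inl ⟨hF.trans (by norm_num), ⟨e⟩⟩⟩
  · exact ⟨F, iF, iT, Or.inr ⟨hF.trans (by norm_num), ⟨e⟩⟩⟩

theorem simple_list (hCIT : CITClass.{u}) (G : Type u) [Group G] [Finite G] [IsSimpleGroup G]
    (hG : ∃ a b : G, a * b ≠ b * a) (h : Pp G) : SimpleList G := by
  rcases hCIT G hG (fun t ht => h.isPGroup_centralizer Nat.prime_two ht) with ⟨F, iF, iT, hq, ⟨e⟩⟩ | h34 | hS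
  · exact psl_case hG h F hq e
  · exact Or.inr (Or.inr (Or.inl h34))
  · exact Or.inr (Or.inr (Or.inr (suzuki_case h hS)))

end Cfsg.Agent.EPPO
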