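import Cfsg.Agent.EqLemmas
import Cfsg.Agent.Lib.EPPO.Simple
import Cfsg.Agent.Lib.EPPO.Extensions
import Cfsg.Agent.Lib.Coprime.Generation
import Cfsg.Agent.Lib.PSLThree.Spectrum
import Cfsg.Agent.Lib.GLOrder.Basic
import Cfsg.Agent.Lib.Suzuki.Stabilizer
import Cfsg.Agent.S1475

/-!
Groups in which every element has prime power order have at most four prime divisors, given the
classification of simple CIT groups.
-/

set_option autoImplicit false

open Cfsg Subgroup

namespace Cfsg.Agent.EPPO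

universe u

theorem primeFactors_card_le {n : ℕ} (l : Finset ℕ) (hl : ∀ p : ℕ, p.Prime → p ∣ n → p ∈ l) :
    n.primeFactors.card ≤ l.card :=
  Finset.card_le_card fun p hp =>
    hl p (Nat.prime_of_mem_primeFactors hp) (Nat.dvd_of_mem_primeFactors hp)

theorem mem_of_dvd_mul_pow {a b c d i j k l p : ℕ} (ha : a.Prime) (hb : b.Prime) (hc : c.Prime) (hd : d.Prime)
    (hp : p.Prime) (h : p ∣ a ^ i * b ^ j * c ^ k * d ^ l) : p ∈ ({a, b, c, d} : Finset ℕ) := by
  simp only [Finset.mem_insert, Finset.mem_singleton]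
  rcases hp.dvd_mul.1 h with h | h
  · rcases hp.dvd_mul.1 h with h | h
    · rcases hp.dvd_mul.1 h with h | h
      · exact Or.inl ((Nat.prime_dvd_prime_iff_eq hp ha).1 (hp.dvd_of_dvd_pow h))
      · exact Or.inr (Or.inl ((Nat.prime_dvd_prime_iff_eq hp hb).1 (hp.dvd_of_dvd_pow h)))
    · exact Or.inr (Or.inr (Or.inl ((Nat.prime_dvd_prime_iff_eq hp hc).1 (hp.dvd_of_dvd_pow h))))
  · exact Or.inr (Or.inr (Or.inr ((Nat.prime_dvd_prime_iff_eq hp hd).1 (hp.dvd_of_dvd_pow h))))

theorem card_pslThree_four {F : Type} [Field F] [Fintype F] (hF : Fintype.card F = 4) :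
    Nat.card (Matrix.ProjectiveSpecialLinearGroup (Fin 3) F) = 20160 := by
  rw [GLOrder.card_PSL, GLOrder.card_SL, Nat.card_eq_fintype_card, hF]
  simp only [Fintype.card_fin, show Finset.Ico 1 3 = {1, 2} from rfl]
  decide

theorem card_lieSz {F : Type} [Field F] [Fintype F] {m n : ℕ} (hm : 1 ≤ m) (hF : Fintype.card F = 2 ^ (2 * m + 1))
    (hn : n = 2 ^ (m + 1)) : Nat.card (Lie.Sz F n) =
      (2 ^ (2 * m + 1)) ^ 2 * ((2 ^ (2 * m + 1)) ^ 2 + 1) * (2 ^ (2 * m + 1) - 1) := by
  subst hn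
  exact (Nat.card_congr (Suzuki.lieEquiv hm hF).toEquiv).symm.trans (Suzuki.card_sz hm hF)

theorem card_of_isSzSmall {S : Type u} [Group S] (h : IsSzSmall S) : Nat.card S = 29120 ∨ Nat.card S = 32537600 := by
  obtain ⟨F, iF, iT, ⟨hF, ⟨e⟩⟩ | ⟨hF, ⟨e⟩⟩⟩ := h
  · left
    rw [Nat.card_congr e.toEquiv, card_lieSz (m := 1) le_rfl (hF.trans (by norm_num)) (by norm_num)]
    norm_num
  · right
    rw [Nat.card_congr e.toEquiv,
      card_lieSz (m := 2) (by norm_num) (hF.trans (by norm_num)) (by norm_num)]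
    norm_num

/-- At most three primes except in `L_3(4)`, `Sz(8)` and `Sz(32)`. -/
theorem card_primeFactors_list {S : Type u} [Group S] [Finite S] (h : SimpleList S) :
    (Nat.card S).primeFactors.card ≤ 4 ∧
      ((Nat.card S).primeFactors.card = 4 → IsLThreeFour S ∨ IsSzSmall S) := by
  have p2 := Nat.prime_two
  have p3 := Nat.prime_three
  have p5 := Nat.prime_five
  have key : ∀ (a b c : ℕ), a.Prime → b.Prime → c.Prime → (∃ i j k, Nat.card S = a ^ i * b ^ j * c ^ k) →
      (Nat.card S).primeFactors.card ≤ 4 ∧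
        ((Nat.card S).primeFactors.card = 4 → IsLThreeFour S ∨ IsSzSmall S) := by
    rintro a b c ha hb hc ⟨i, j, k, e⟩
    have := primeFactors_card_le {a, b, c} fun p hp hpd => by
      have := mem_of_dvd_mul_pow (i := i) (j := j) (k := k) (l := 0) ha hb hc hc hp (by rw [pow_zero, mul_one, ← e]; exact hpd)
      simpa [Finset.mem_insert, Finset.mem_singleton] using this
    have h3 : ({a, b, c} : Finset ℕ).card ≤ 3 := Finset.card_le_three
    exact ⟨by omega, fun h4 => by omega⟩
  rcases h with ⟨⟨e⟩⟩ | ⟨F, iF, iT, hF, ⟨e⟩⟩ | h34 | hSz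
  · refine key 2 3 5 p2 p3 p5 ⟨3, 2, 1, ?_⟩
    have h2 := two_mul_nat_card_alternatingGroup (α := Fin 6)
    rw [Nat.card_perm, Nat.card_fin, show Nat.factorial 6 = 720 from rfl] at h2
    rw [Nat.card_congr e.toEquiv]
    omega
  · have hc : Nat.gcd 2 (Nat.card F - 1) * Nat.card S = Nat.card F * ((Nat.card F + 1) * (Nat.card F - 1)) := by
      rw [Nat.card_congr e.toEquiv]
      exact PSL2.card_psl_mul
    rw [Nat.card_eq_fintype_card (α := F)] at hc
    simp only [Finset.mem_insert, Finset.mem_singleton] at hF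
    rcases hF with hF | hF | hF | hF <;> rw [hF] at hc <;> norm_num at hc
    · exact key 2 3 5 p2 p3 p5 ⟨2, 1, 1, by omega⟩
    · exact key 2 3 7 p2 p3 (by norm_num) ⟨3, 1, 1, by omega⟩
    · exact key 2 3 7 p2 p3 (by norm_num) ⟨3, 2, 1, by omega⟩
    · exact key 2 3 17 p2 p3 (by norm_num) ⟨4, 2, 1, by omega⟩
  · refine ⟨?_, fun _ => Or.inl h34⟩
    obtain ⟨F, iF, iT, hF, ⟨e⟩⟩ := h34
    refine (primeFactors_card_le {2, 3, 5, 7} fun p hp hpd => ?_).trans (by decide)
    refine mem_of_dvd_mul_pow (i := 6) (j := 2) (k := 1) (l := 1) p2 p3 p5 (by norm_num) hp ?_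
    rwa [Nat.card_congr e.toEquiv, card_pslThree_four hF] at hpd
  · refine ⟨?_, fun _ => Or.inr hSz⟩
    rcases card_of_isSzSmall hSz with e | e
    · refine (primeFactors_card_le {2, 5, 7, 13} fun p hp hpd => ?_).trans (by decide)
      refine mem_of_dvd_mul_pow (i := 6) (j := 1) (k := 1) (l := 1) p2 p5 (by norm_num) (by norm_num) hp ?_
      rw [e] at hpd
      exact hpd
    · refine (primeFactors_card_le {2, 5, 31, 41} fun p hp hpd => ?_).trans (by decide)
      refine mem_of_dvd_mul_pow (i := 10) (j := 2) (k := 1) (l := 1) p2 p5 (by norm_num) (by norm_num) hp ?_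
      rw [e] at hpd
      exact hpd

/-- No extension of `L_3(4)`, `Sz(8)`, `Sz(32)` keeps all orders prime powers. -/
theorem eq_top_of_four {Q : Type u} [Group Q] [Finite Q] (h : Pp Q) (S : Subgroup Q) [S.Normal]
    (hc : Nat.card S = 20160 ∨ Nat.card S = 29120 ∨ Nat.card S = 32537600) : S = ⊤ := by
  rcases hc with hc | hc | hc
  · refine eq_top_of_two_primes h S (p := 7) (q := 5) (by norm_num) (by norm_num) (by rw [hc]; norm_num)
      (by rw [hc]; norm_num) (by rw [hc]; norm_num) (by rw [hc]; norm_num) (by norm_num) ?_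
    intro e e' k he' hee hk hk1 hpf
    rw [hc] at hk
    have := Nat.le_of_dvd (by norm_num) he'
    have := Nat.pos_of_dvd_of_pos he' (by norm_num)
    have := Nat.le_of_dvd this hee
    have := Nat.pos_of_dvd_of_pos hee ‹0 < e'›
    interval_cases e' <;> interval_cases e <;> try omega
    all_goals (have hh := hpf 2 3 (by norm_num) (by norm_num); norm_num at hh; done)
  · refine eq_top_of_two_primes h S (p := 13) (q := 5) (by norm_num) (by norm_num) (by rw [hc]; norm_num)
      (by rw [hc]; norm_num) (by rw [hc]; norm_num) (by rw [hc]; norm_num) (by norm_num) ?_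
    intro e e' k he' hee hk hk1 hpf
    rw [hc] at hk
    have := Nat.le_of_dvd (by norm_num) he'
    have := Nat.pos_of_dvd_of_pos he' (by norm_num)
    have := Nat.le_of_dvd this hee
    have := Nat.pos_of_dvd_of_pos hee ‹0 < e'›
    interval_cases e' <;> interval_cases e <;> try omega
    all_goals (have hh := hpf 2 3 (by norm_num) (by norm_num); norm_num at hh; done)
  · refine eq_top_of_two_primes h S (p := 31) (q := 41) (by norm_num) (by norm_num) (by rw [hc]; norm_num)
      (by rw [hc]; norm_num) (by rw [hc]; norm_num) (by rw [hc]; norm_num) (by norm_num) ?_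
    intro e e' k he' hee hk hk1 hpf
    rw [hc] at hk
    have := Nat.le_of_dvd (by norm_num) he'
    have := Nat.pos_of_dvd_of_pos he' (by norm_num)
    have := Nat.le_of_dvd this hee
    have := Nat.pos_of_dvd_of_pos hee ‹0 < e'›
    interval_cases e' <;> interval_cases e <;> try omega
    all_goals first
      | (have hh := hpf 2 3 (by norm_num) (by norm_num); norm_num at hh; done)
      | (have hh := hpf 2 5 (by norm_num) (by norm_num); norm_num at hh; done)
      | (have hh := hpf 3 5 (by norm_num) (by norm_num); norm_num at hh; done)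

/-- Over `L_3(4)` there is no 2-radical. -/
theorem eq_bot_of_lThreeFour {G : Type u} [Group G] [Finite G] (h : Pp G) (R : Subgroup G) [R.Normal]
    (hR : IsPGroup 2 R) (hQ : IsLThreeFour (G ⧸ R)) : R = ⊥ := by
  haveI : Fact (Nat.Prime 3) := ⟨Nat.prime_three⟩
  haveI : Fact (Nat.Prime 2) := ⟨Nat.prime_two⟩
  obtain ⟨F, iF, iT, hF, ⟨e⟩⟩ := hQ
  obtain ⟨k, hk⟩ := IsPGroup.iff_card.1 hR
  have hcard : Nat.card G = 20160 * 2 ^ k := by
    rw [Subgroup.card_eq_card_quotient_mul_card_subgroup R, hk, Nat.card_congr e.toEquiv, card_pslThree_four hF]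
  obtain ⟨P⟩ := (inferInstance : Nonempty (Sylow 3 G))
  have hP : Nat.card (P : Subgroup G) = 9 := by
    obtain ⟨n, hn⟩ := IsPGroup.iff_card.1 P.isPGroup'
    have h1 : Nat.card (P : Subgroup G) ∣ Nat.card G := Subgroup.card_subgroup_dvd_card _
    have h2 : 3 ^ 2 ∣ Nat.card (P : Subgroup G) :=
      P.pow_dvd_card_of_pow_dvd_card (by rw [hcard]; exact dvd_mul_of_dvd_left (by norm_num) _)
    rw [hn] at h1 h2 ⊢
    have h2' : 2 ≤ n := (Nat.pow_dvd_pow_iff_le_right (by norm_num)).1 h2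
    have h3 : n ≤ 2 := by
      by_contra hlt
      have h4 : 3 ^ 3 ∣ Nat.card G := (pow_dvd_pow 3 (by omega : 3 ≤ n)).trans h1
      rw [hcard] at h4
      have h5 : 3 ^ 3 ∣ 20160 := (Nat.Coprime.pow 3 k (by norm_num)).dvd_of_dvd_mul_right h4
      norm_num at h5
    obtain rfl : n = 2 := by omega
    norm_num
  haveI : IsMulCommutative (P : Subgroup G) :=
    IsPGroup.isMulCommutative_of_card_eq_prime_sq (p := 3) (by rw [hP]; norm_num)
  have hdisj : ∀ x ∈ (P : Subgroup G), x ∈ R → x = 1 := fun x hx hxR => by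
    have hle : Disjoint (P : Subgroup G) R := IsPGroup.disjoint_of_ne 3 2 (by norm_num) _ _ P.isPGroup' hR
    exact Subgroup.mem_bot.1 (hle.le_bot ⟨hx, hxR⟩)
  have hno9 : ∀ x ∈ (P : Subgroup G), x ^ 3 = 1 := by
    intro x hx
    have h9 : orderOf x ∣ 3 ^ 2 := by
      have := orderOf_dvd_natCard (⟨x, hx⟩ : (P : Subgroup G))
      rwa [Subgroup.orderOf_mk, hP] at this
    obtain ⟨g, hg⟩ := QuotientGroup.mk'_surjective
      (Subgroup.center (Matrix.SpecialLinearGroup (Fin 3) F)) (e (QuotientGroup.mk' R x))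
    haveI : CharP F 2 := by
      obtain ⟨r, hr⟩ := CharP.exists F
      haveI := Fact.mk (CharP.char_is_prime F r)
      obtain ⟨n, hp, hn⟩ := FiniteField.card F r
      have h1 : r ∣ 4 := by rw [← hF, hn]; exact dvd_pow_self r n.pos.ne'
      have h2 : r = 2 := by
        have := Nat.le_of_dvd (by norm_num) h1
        have := hp.two_le
        interval_cases r <;> first | rfl | (norm_num at h1; done) | exact absurd hp (by norm_num)
      subst h2
      exact hr
    obtain ⟨m, hm, hgm⟩ := PSLThree.exists_exponent 2 g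
    have hxm : x ^ m = 1 := by
      apply hdisj _ (pow_mem hx m)
      rw [← QuotientGroup.eq_one_iff]
      apply e.injective
      rw [← QuotientGroup.mk'_apply, map_pow, map_pow, ← hg, ← map_pow, map_one]
      exact (QuotientGroup.eq_one_iff _).2 hgm
    have hdm := orderOf_dvd_of_pow_eq_one hxm
    rw [hF] at hm
    apply orderOf_dvd_iff_pow_eq_one.1
    obtain ⟨i, hi, hxi⟩ := (Nat.dvd_prime_pow Nat.prime_three).1 h9
    rw [hxi] at hdm ⊢
    norm_num at hm
    interval_cases i
    · norm_num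
    · norm_num
    · exfalso
      rcases hm with rfl | rfl | rfl | rfl | rfl <;> norm_num at hdm
  have hncyc : ¬ IsCyclic (P : Subgroup G) := by
    intro hc
    obtain ⟨c, hc'⟩ := IsCyclic.exists_ofOrder_eq_natCard (α := (P : Subgroup G))
    have h1 : orderOf (c : G) ∣ 3 := orderOf_dvd_of_pow_eq_one (hno9 c c.2)
    rw [Subgroup.orderOf_coe, hc', hP] at h1
    norm_num at h1
  refine le_bot_iff.1 (Coprime.le_of_noncyclic hncyc le_normalizer_of_normal ?_ fun a ha ha1 => ?_)
  · rw [hP, hk]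
    exact Nat.Coprime.pow_right _ (by norm_num)
  · rintro r ⟨hr, hrc⟩
    have hao : orderOf a = 3 := orderOf_eq_prime (hno9 a ha) ha1
    by_contra hr1
    rw [Subgroup.mem_bot] at hr1
    obtain ⟨s, hs, hsd⟩ := Nat.exists_prime_and_dvd (orderOf_eq_one_iff.not.2 hr1)
    have h3 := h.orderOf_dvd_of_commute Nat.prime_three hao (mem_centralizer_singleton_iff.1 hrc).symm hs hsd
    have h4 : orderOf r ∣ 2 ^ k := by
      have := orderOf_dvd_natCard (⟨r, hr⟩ : R)
      rwa [Subgroup.orderOf_mk, hk] at this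
    have h5 := (Nat.prime_dvd_prime_iff_eq hs Nat.prime_two).1 (hs.dvd_of_dvd_pow (hsd.trans h4))
    omega

/-- The prime divisors of a group with all orders prime powers. -/
theorem prime_count (hCIT : CITClass.{u}) {G : Type u} [Group G] [Finite G] (h : Pp G) :
    (Nat.card G).primeFactors.card ≤ 4 ∧
    ((Nat.card G).primeFactors.card = 4 →
      IsLThreeFour G ∨ ∃ (N : Subgroup G) (_ : N.Normal), IsPGroup 2 N ∧ IsSzSmall (G ⧸ N)) := by
  by_cases hs : Group.IsSolvable G
  · have := S1475.result (G := G) fun g => (em (g = 1)).symm.imp (h g) id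
    exact ⟨by omega, fun h4 => by omega⟩
  obtain ⟨R, hRn, hRs, hrad⟩ := exists_radical (G := G)
  haveI := hRn
  haveI := hRs
  have hQns : ¬ Group.IsSolvable (G ⧸ R) := fun hq => hs (by
    haveI := hq
    exact solvable_of_ker_le_range R.subtype (QuotientGroup.mk' R) (by simp))
  haveI : Nontrivial (G ⧸ R) := by
    by_contra hn
    haveI := not_nontrivial_iff_subsingleton.1 hn
    exact hQns inferInstance
  have hQ : Pp (G ⧸ R) := h.quotient R
  have hR2 : IsPGroup 2 R := isPGroup_two_radical h R hQns hrad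
  obtain ⟨S, hSn, hSs, hSns, hSC⟩ := exists_simple_normal hQ hrad
  haveI := hSn
  haveI := hSs
  have hab : ∃ a b : S, a * b ≠ b * a := by
    by_contra hh
    push Not at hh
    exact hSns (IsSimpleGroup.comm_iff_isSolvable.1 hh)
  have hlist := simple_list hCIT S hab (hQ.subgroup S)
  have h2 : 2 ∣ Nat.card S := by
    by_contra h2
    exact hSns (OddOrderTheorem.solvable (Nat.not_even_iff_odd.1 fun e => h2 (even_iff_two_dvd.1 e)))
  have hpf : (Nat.card G).primeFactors = (Nat.card S).primeFactors := by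
    ext r
    simp only [Nat.mem_primeFactors, ne_eq, Nat.card_pos.ne', not_false_eq_true, and_true]
    refine and_congr_right fun hr => ⟨fun hd => ?_, fun hd => hd.trans ((Subgroup.card_subgroup_dvd_card S).trans
      (Subgroup.card_quotient_dvd_card R))⟩
    rw [Subgroup.card_eq_card_quotient_mul_card_subgroup R] at hd
    rcases hr.dvd_mul.1 hd with hd | hd
    · exact dvd_card_of_normal hQ S hSns hSC hr hd
    · obtain ⟨k, hk⟩ := IsPGroup.iff_card.1 hR2
      rw [hk] at hd
      rwa [(Nat.prime_dvd_prime_iff_eq hr Nat.prime_two).1 (hr.dvd_of_dvd_pow hd)]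
  rw [hpf]
  refine ⟨(card_primeFactors_list hlist).1, fun h4 => ?_⟩
  have h34 := (card_primeFactors_list hlist).2 h4
  have hc : Nat.card S = 20160 ∨ Nat.card S = 29120 ∨ Nat.card S = 32537600 := by
    rcases h34 with ⟨F, iF, iT, hF, ⟨e⟩⟩ | hz
    · exact Or.inl ((Nat.card_congr e.toEquiv).trans (card_pslThree_four hF))
    · exact Or.inr (card_of_isSzSmall hz)
  obtain rfl := eq_top_of_four hQ S hc
  rcases h34 with ⟨F, iF, iT, hF, ⟨e⟩⟩ | ⟨F, iF, iT, hz⟩
  · have hQ34 : IsLThreeFour (G ⧸ R) := ⟨F, iF, iT, hF, ⟨Subgroup.topEquiv.symm.trans e⟩⟩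
    obtain rfl := eq_bot_of_lThreeFour h R hR2 hQ34
    exact Or.inl ⟨F, iF, iT, hF, ⟨QuotientGroup.quotientBot.symm.trans (Subgroup.topEquiv.symm.trans e)⟩⟩
  · refine Or.inr ⟨R, hRn, hR2, F, iF, iT, ?_⟩
    rcases hz with ⟨hF, ⟨e⟩⟩ | ⟨hF, ⟨e⟩⟩
    · exact Or.inl ⟨hF, ⟨Subgroup.topEquiv.symm.trans e⟩⟩
    · exact Or.inr ⟨hF, ⟨Subgroup.topEquiv.symm.trans e⟩⟩

/-- The statement of S2497, given the CIT classification. -/
theorem simple_groups_of_cit (hCIT : CITClass.{u}) {G : Type u} [Group G] [Finite G] [IsSimpleGroup G]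
    (hG : ¬ IsMulCommutative G) (h : ∀ g : G, g ≠ 1 → IsPrimePow (orderOf g)) :
    Nonempty (G ≃* alternatingGroup (Fin 6)) ∨
    (∃ (F : Type) (_ : Field F) (_ : Fintype F), Fintype.card F ∈ ({4, 7, 8, 17} : Finset ℕ) ∧
      Nonempty (G ≃* Matrix.ProjectiveSpecialLinearGroup (Fin 2) F)) ∨
    (∃ (F : Type) (_ : Field F) (_ : Fintype F), Fintype.card F = 4 ∧
      Nonempty (G ≃* Matrix.ProjectiveSpecialLinearGroup (Fin 3) F)) ∨
    (∃ (F : Type) (_ : Field F) (_ : Fintype F),
      (Fintype.card F = 8 ∧ Nonempty (G ≃* ↥(Cfsg.Lie.Sz F 4))) ∨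
        (Fintype.card F = 32 ∧ Nonempty (G ≃* ↥(Cfsg.Lie.Sz F 8)))) :=
  simple_list hCIT G (by
    by_contra hh
    push Not at hh
    exact hG ⟨⟨hh⟩⟩) h

/-- The statement of S4087, given the CIT classification. -/
theorem four_primes_of_cit (hCIT : CITClass.{u}) {G : Type u} [Group G] [Finite G]
    (h : ∀ g : G, g ≠ 1 → IsPrimePow (orderOf g)) :
    (Nat.card G).primeFactors.card ≤ 4 ∧
    ((Nat.card G).primeFactors.card = 4 →
      (∃ (F : Type) (_ : Field F) (_ : Fintype F), Fintype.card F = 4 ∧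
        Nonempty (G ≃* Matrix.ProjectiveSpecialLinearGroup (Fin 3) F)) ∨
      (∃ (N : Subgroup G) (_ : N.Normal), IsPGroup 2 ↥N ∧
        ∃ (F : Type) (_ : Field F) (_ : Fintype F),
          (Fintype.card F = 8 ∧ Nonempty (G ⧸ N ≃* ↥(Cfsg.Lie.Sz F 4))) ∨
          (Fintype.card F = 32 ∧ Nonempty (G ⧸ N ≃* ↥(Cfsg.Lie.Sz F 8))))) :=
  prime_count hCIT h

end Cfsg.Agent.EPPO
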